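import Groth.Agent.EtSepClosed.Basic
import Groth.Agent.S9436

/-!
Étale affine schemes over closed subschemes of absolutely integrally closed schemes split.
-/

set_option autoImplicit false
set_option backward.isDefEq.respectTransparency false
set_option linter.style.haveILetI false
universe u

open CategoryTheory CategoryTheory.Limits AlgebraicGeometry TensorProduct

namespace Groth.Agent.EtClosedSplit

variable {V Z X : Scheme.{u}}

/-- étale affine schemes lift along closed immersions of affine schemes -/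
theorem exists_lift [IsAffine X] (i : Z ⟶ X) [IsClosedImmersion i] (φ : V ⟶ Z) [Etale φ] [IsAffine V] :
    ∃ (U : Scheme.{u}) (g : U ⟶ X) (m : V ⟶ U), Etale g ∧ IsSeparated g ∧ IsPullback m φ g i := by
  obtain ⟨hZ, hsur⟩ := IsClosedImmersion.isAffine_surjective_of_isAffine i
  let I : Ideal Γ(X, ⊤) := RingHom.ker i.appTop.hom
  let q : (Γ(X, ⊤) ⧸ I) ≃+* Γ(Z, ⊤) := RingHom.quotientKerEquivOfSurjective hsur
  letI := (φ.appTop.hom.comp q.toRingHom).toAlgebra
  haveI : Algebra.Etale (Γ(X, ⊤) ⧸ I) Γ(V, ⊤) := RingHom.etale_algebraMap.mp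
    (RingHom.Etale.stableUnderComposition _ _ (RingHom.Etale.of_bijective q.bijective)
      (HasRingHomProperty.appTop (P := @Etale) φ ‹_›))
  obtain ⟨S, _, _, hS, ⟨e⟩⟩ := Groth.Agent.S9436.result Γ(X, ⊤) I Γ(V, ⊤)
  let g₀ : Spec (CommRingCat.of S) ⟶ Spec Γ(X, ⊤) := Spec.map (CommRingCat.ofHom (algebraMap Γ(X, ⊤) S))
  haveI : Etale g₀ := (HasRingHomProperty.Spec_iff (P := @Etale)).mpr (RingHom.etale_algebraMap.mpr hS)
  let ψ : CommRingCat.of S ⟶ Γ(V, ⊤) := CommRingCat.ofHom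
    (e.toRingEquiv.toRingHom.comp (Algebra.TensorProduct.includeRight (R := Γ(X, ⊤)) (A := Γ(X, ⊤) ⧸ I)).toRingHom)
  have h1 : IsPushout i.appTop (CommRingCat.ofHom (algebraMap Γ(X, ⊤) S)) φ.appTop ψ := by
    refine (CommRingCat.isPushout_tensorProduct Γ(X, ⊤) (Γ(X, ⊤) ⧸ I) S).of_iso (Iso.refl _) q.toCommRingCatIso
      (Iso.refl _) e.toRingEquiv.toCommRingCatIso ?_ (by simp) ?_ ?_
    · ext a
      exact RingHom.quotientKerEquivOfSurjective_apply_mk hsur a
    · ext a
      exact e.commutes a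
    · ext a
      rfl
  have h2 := isPullback_SpecMap_of_isPushout _ _ _ _ h1
  refine ⟨_, g₀ ≫ X.isoSpec.inv, V.isoSpec.hom ≫ Spec.map ψ, inferInstance, inferInstance, ?_⟩
  refine h2.flip.of_iso V.isoSpec.symm (Iso.refl _) Z.isoSpec.symm X.isoSpec.symm ?_ ?_ ?_ ?_
  · simp
  · simp [Scheme.isoSpec_inv_naturality]
  · simp [g₀]
  · simp [Scheme.isoSpec_inv_naturality]

/-- étale affine schemes over closed subschemes split into finitely many open pieces -/
theorem exists_pieces [IsAffine X] [IsIntegral X] (hN : ∀ x : X, IsIntegrallyClosed (X.presheaf.stalk x))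
    [IsSepClosed X.functionField] (i : Z ⟶ X) [IsClosedImmersion i] (φ : V ⟶ Z) [Etale φ] [IsAffine V] :
    ∃ (ι : Type u) (_ : Finite ι) (P : ι → V.Opens), (∀ v, ∃ k, v ∈ P k) ∧ Pairwise (fun k l => Disjoint (P k) (P l)) ∧
      ∀ k, IsOpenImmersion ((P k).ι ≫ φ) := by
  obtain ⟨U, g, m, _, _, hsq⟩ := exists_lift i φ
  obtain ⟨ι, W, e, he⟩ := EtSepClosed.exists_decomp hN g
  let a : ∀ k, (W k : Scheme.{u}) ⟶ U := fun k => Sigma.ι (fun k => (W k : Scheme.{u})) k ≫ e.hom
  have hg : ∀ k, a k ≫ g = (W k).ι := fun k => by rw [Category.assoc]; exact he k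
  let Q : ι → V.Opens := fun k => m ⁻¹ᵁ (a k).opensRange
  have hcov : ∀ v, ∃ k, v ∈ Q k := fun v => by
    obtain ⟨⟨k, w⟩, hw⟩ := (sigmaMk (fun k => (W k : Scheme.{u}))).surjective (e.inv (m v))
    have hw : a k w = m v := by
      rw [Scheme.Hom.comp_apply, ← sigmaMk_mk, hw, ← Scheme.Hom.comp_apply, e.inv_hom_id]
      rfl
    exact ⟨k, w, hw⟩
  have hdis : Pairwise fun k l => Disjoint (Q k) (Q l) := fun k l hkl => by
    refine disjoint_iff.mpr (le_bot_iff.mp fun v ⟨⟨w, hw⟩, ⟨w', hw'⟩⟩ => hkl ?_)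
    have : Sigma.ι (fun k => (W k : Scheme.{u})) k w = Sigma.ι (fun k => (W k : Scheme.{u})) l w' :=
      e.hom.isOpenEmbedding.injective (hw.trans hw'.symm)
    by_contra hne
    exact hne ((sigmaι_eq_iff (fun k => (W k : Scheme.{u})) k l w w').mp this |> fun h => (Sigma.mk.inj_iff.mp h).1)
  obtain ⟨t, ht⟩ := (CompactSpace.isCompact_univ (X := V)).elim_finite_subcover (fun k => (Q k : Set V))
    (fun k => (Q k).isOpen) (fun v _ => Set.mem_iUnion.mpr (hcov v))
  refine ⟨t, inferInstance, fun k => Q k.1, fun v => ?_, fun k l hkl => hdis fun h => hkl (Subtype.ext h), fun k => ?_⟩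
  · obtain ⟨k, hk, hv⟩ := Set.mem_iUnion₂.mp (ht (Set.mem_univ v))
    exact ⟨⟨k, hk⟩, hv⟩
  · have h3 : IsOpenImmersion ((a k.1).opensRange.ι ≫ g) := by
      rw [← Scheme.Hom.isoOpensRange_inv_comp, Category.assoc, hg]
      infer_instance
    exact MorphismProperty.of_isPullback (P := @IsOpenImmersion)
      ((isPullback_morphismRestrict m _).paste_vert hsq) h3

end Groth.Agent.EtClosedSplit
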